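import Cfsg.Agent.Lib.Sporadic.FiTransfer23.ClassUnique.Defs

/-!
# Kernel checks for the involutions of Fi23: certificates, part 1
-/

set_option autoImplicit false
set_option maxRecDepth 100000
set_option maxHeartbeats 0

namespace CfsgLib.Sporadic.FiTransfer23.ClassUnique

theorem cert1_ok : cert1.all certK = true := by decide +kernel

end CfsgLib.Sporadic.FiTransfer23.ClassUnique
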