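import Cfsg.Agent.Lib.Sporadic.FiTransfer23.ClassUnique.Defs

/-!
# Kernel checks for the involutions of Fi23: certificates, part 3
-/

set_option autoImplicit false
set_option maxRecDepth 100000
set_option maxHeartbeats 0
set_option Elab.async false

namespace CfsgLib.Sporadic.FiTransfer23.ClassUnique

theorem cert3_ok_part0 : ((cert3.drop 0).take 28).all certK = true := by decide +kernel

theorem cert3_ok_part1 : ((cert3.drop 28).take 28).all certK = true := by decide +kernel

theorem cert3_ok_part2 : (cert3.drop 56).all certK = true := by decide +kernel

theorem cert3_ok : cert3.all certK = true := by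
  rw [show cert3 = ((cert3.drop 0).take 28) ++ ((cert3.drop 28).take 28) ++ (cert3.drop 56) from rfl]
  simp only [List.all_append, cert3_ok_part0, cert3_ok_part1, cert3_ok_part2, Bool.and_self]

end CfsgLib.Sporadic.FiTransfer23.ClassUnique
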