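import Cfsg.Agent.Lib.Sporadic.FiTransfer23.ClassUnique.Defs

/-!
# Kernel checks for the involutions of Fi23: structure
-/

set_option autoImplicit false
set_option maxRecDepth 100000
set_option maxHeartbeats 0

namespace CfsgLib.Sporadic.FiTransfer23.ClassUnique

theorem central_ok : centralK = true := by decide +kernel

theorem square_ok : squareK = true := by decide +kernel

theorem list_ok : listK = true := by decide +kernel

theorem cover_ok : coverK = true := by decide +kernel

theorem invT_len : invT.length = 36 := by decide +kernel

theorem reach_ok : (List.range 36).all reachK = true := by decide +kernel

end CfsgLib.Sporadic.FiTransfer23.ClassUnique
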