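import Cfsg.Agent.Lib.Sporadic.FiTransfer23.ClassUnique.Data
import Cfsg.Agent.Lib.Sporadic.Fi23SylowTwo.Defs
import Cfsg.Agent.Lib.Sporadic.Fi23Class

/-!
# The checks on the data for the involutions of Fi23
-/

set_option autoImplicit false

namespace CfsgLib.Sporadic.FiTransfer23.ClassUnique

open CosetCert CosetCert.Fi23P.Two
open CosetCert.Fi23Data (table prodE7Letters)

/-- The word of an element of the Sylow subgroup. -/
def xW (a r : ℕ) : List ℕ := upWord a ++ vecWord r

/-- Agreement of two words on the points of the generators. -/
noncomputable def agreeK (A B : List ℕ) : Bool :=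
  genPts.all fun p => Nat.beq (table.imgW A p) (table.imgW B p)

/-- The central word is the listed transposition. -/
noncomputable def centralK : Bool :=
  agreeK (List.replicate 9 prodE7Letters).flatten CosetCert.Fi23P.trWord

/-- The squares of the listed elements lie in the abelian subgroup as listed. -/
noncomputable def squareK : Bool :=
  invT.all fun e => Nat.blt e.1 128 && Nat.blt e.2 2048 && agreeK (upWord e.1 ++ upWord e.1) (vecWord e.2)

/-- Every involutive permutation is listed. -/
noncomputable def listK : Bool :=
  invT.any (fun e => Nat.beq e.1 0) && invList.all fun a => invT.any fun e => Nat.beq e.1 a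

/-- One step of the reduction. -/
noncomputable def moveK (a : ℕ) (rts : List ℕ) (mask : ℕ) (e : ℕ × ℕ × ℕ × ℕ) : Bool :=
  Nat.blt e.1 2048 &&
    (rts.contains e.1 || (Nat.testBit mask e.2.1 &&
      bif Nat.blt e.2.2.2 7 then Nat.beq a 0 && Nat.beq e.1 (actV (Nat.pow 2 e.2.2.2) e.2.1)
      else Nat.beq e.1 (Nat.xor (Nat.xor e.2.1 e.2.2.1) (actV a e.2.2.1))))

/-- The reduction, collecting the vectors reached. -/
noncomputable def runK (a : ℕ) (rts : List ℕ) : List (ℕ × ℕ × ℕ × ℕ) → ℕ → Option ℕ
  | [], mask => some mask
  | e :: t, mask => bif moveK a rts mask e then runK a rts t (Nat.lor mask (2 ^ e.1)) else none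

/-- All solutions for one element are reached. -/
noncomputable def reachK (i : ℕ) : Bool :=
  let e := invT.getD i (128, 0)
  match runK e.1 (rootsT.getD i []) (forest.getD i []) 0 with
  | none => false
  | some m => (List.range 2048).all fun v =>
      Nat.testBit m v || !(Nat.beq (Nat.xor (Nat.xor v (actV e.1 v)) e.2) 0)

/-- All certificates. -/
def certAll : List (ℕ × ℕ × ℕ × ℕ × List ℕ) := cert0 ++ cert1 ++ cert2 ++ cert3

/-- Every remaining candidate has a certificate. -/
noncomputable def coverK : Bool :=
  (List.range invT.length).all fun i => (rootsT.getD i []).all fun r =>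
    certAll.any fun c => Nat.beq c.1 (invT.getD i (128, 0)).1 && Nat.beq c.2.1 r

/-- The word of the product with a conjugate. -/
def twistW (x h : List ℕ) : List ℕ := h.reverse ++ x ++ h ++ x

/-- One certificate: a product with a conjugate of order more than three, one of the twenty-three
transpositions, or the identity. -/
noncomputable def certK (c : ℕ × ℕ × ℕ × ℕ × List ℕ) : Bool :=
  let x := xW c.1 c.2.1
  let p := c.2.2.2.1
  bif Nat.beq c.2.2.1 1 then
    c.2.2.2.2.all (fun l => Nat.blt l 10) && Nat.blt p 31671 &&
      (let y := twistW x c.2.2.2.2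
       let p2 := table.imgW y (table.imgW y p)
       !(Nat.beq p2 p) && !(Nat.beq (table.imgW y p2) p))
  else bif Nat.beq c.2.2.1 2 then Nat.blt p 23 && agreeK x (frameWord p)
  else agreeK x []

end CfsgLib.Sporadic.FiTransfer23.ClassUnique
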