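import Cfsg.Agent.Lib.Sporadic.FiTransfer23.ClassUnique.Checks
import Cfsg.Agent.Lib.Sporadic.FiTransfer23.ClassUnique.CheckCert0
import Cfsg.Agent.Lib.Sporadic.FiTransfer23.ClassUnique.CheckCert1
import Cfsg.Agent.Lib.Sporadic.FiTransfer23.ClassUnique.CheckCert2
import Cfsg.Agent.Lib.Sporadic.FiTransfer23.ClassUnique.CheckCert3
import Cfsg.Agent.Lib.Sporadic.Fi23SylowTwo.Main
import Cfsg.Agent.Lib.Sporadic.FiTransfer23.Model
import Cfsg.Prelude.Def_SporadicB

/-!
# Uniqueness of the class of 3-transpositions, type M(23)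
-/

set_option autoImplicit false
set_option maxRecDepth 100000

open Cfsg.Spor
open CfsgLib.Sporadic.CosetCert CfsgLib.Sporadic.CosetCert.Fi23P CfsgLib.Sporadic.CosetCert.Fi23P.Two
open CfsgLib.Sporadic.CosetCert.Fi23Data (table)

namespace CfsgLib.Sporadic.FiTransfer23.ClassUnique

attribute [local irreducible] PTab.img Forest.cls actV mulAt permAt

theorem eq_of_agree {A B : List ℕ} (hA : ∀ x ∈ A, x < 10) (hB : ∀ x ∈ B, x < 10) (h : agreeK A B = true) :
    el A = el B := eq_of_sameK hA hB h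

theorem zz_eq_tr : zz = Fi23P.tr := by
  rw [zz_eq]
  exact eq_of_agree (by decide +kernel) trWord_lt central_ok

theorem dp_mem (p : Fin table.N) : dp p ∈ classTr := by
  obtain ⟨c, hc⟩ := transitive p
  rw [dp_eq hc, zz_eq_tr]
  exact isConj_iff.2 ⟨c, rfl⟩

/-- What is known about an element: trivial, of the class, or not in a class of 3-transpositions. -/
def Good (x : Fi23) : Prop :=
  x * x = 1 → x = 1 ∨ x ∈ classTr ∨
    ∃ g : Fi23, (x * (g * x * g⁻¹)) ^ 2 ≠ 1 ∧ (x * (g * x * g⁻¹)) ^ 3 ≠ 1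

theorem good_conj (k x : Fi23) (h : Good x) : Good (k * x * k⁻¹) := by
  intro h2
  have hx : x * x = 1 := by
    calc x * x = k⁻¹ * (k * x * k⁻¹ * (k * x * k⁻¹)) * k := by group
      _ = 1 := by rw [h2]; group
  rcases h hx with rfl | h | ⟨g, hg⟩
  · exact Or.inl (by group)
  · exact Or.inr (Or.inl (classTr_conj h))
  · refine Or.inr (Or.inr ⟨k * g * k⁻¹, ?_⟩)
    rw [show k * x * k⁻¹ * (k * g * k⁻¹ * (k * x * k⁻¹) * (k * g * k⁻¹)⁻¹) =
      k * (x * (g * x * g⁻¹)) * k⁻¹ by group, conj_pow, conj_pow]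
    exact ⟨fun e => hg.1 (by simpa using e), fun e => hg.2 (by simpa using e)⟩

theorem inv_index {a : ℕ} (ha : a < 128) (h2 : mulAt a a = 0) :
    ∃ i < invT.length, (invT.getD i (128, 0)).1 = a := by
  have h := list_ok
  simp only [listK, Bool.and_eq_true, List.all_eq_true] at h
  have hm : invT.any (fun e => Nat.beq e.1 a) = true := by
    by_cases h0 : a = 0
    · rw [h0]; exact h.1
    · exact h.2 a (invList_of ha h0 h2)
  obtain ⟨e, he, hb⟩ := List.any_eq_true.1 hm
  obtain ⟨i, hi, rfl⟩ := List.mem_iff_getElem.1 he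
  exact ⟨i, hi, by rw [List.getD_eq_getElem _ _ hi]; exact Nat.eq_of_beq_eq_true hb⟩

theorem square_spec {i : ℕ} (hi : i < invT.length) :
    (invT.getD i (128, 0)).1 < 128 ∧ (invT.getD i (128, 0)).2 < 2048 ∧
      U (invT.getD i (128, 0)).1 * U (invT.getD i (128, 0)).1 = e (invT.getD i (128, 0)).2 := by
  have h := square_ok
  simp only [squareK, List.all_eq_true, Bool.and_eq_true] at h
  have hm : invT.getD i (128, 0) ∈ invT := by
    rw [List.getD_eq_getElem _ _ hi]; exact List.getElem_mem hi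
  obtain ⟨⟨h1, h2⟩, h3⟩ := h _ hm
  refine ⟨Nat.le_of_ble_eq_true h1, Nat.le_of_ble_eq_true h2, ?_⟩
  have hu := upWord_lt (invT.getD i (128, 0)).1
  have e' := eq_of_agree (fun x hx => (List.mem_append.1 hx).elim (hu x) (hu x)) (vecWord_lt _) h3
  rwa [el_append] at e'

theorem good_cert (c : ℕ × ℕ × ℕ × ℕ × List ℕ) (hc : c ∈ certAll) : Good (e c.2.1 * U c.1) := by
  have hK : certK c = true := by
    simp only [certAll, List.mem_append] at hc
    rcases hc with ((h | h) | h) | h
    exacts [List.all_eq_true.1 cert0_ok c h, List.all_eq_true.1 cert1_ok c h,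
      List.all_eq_true.1 cert2_ok c h, List.all_eq_true.1 cert3_ok c h]
  obtain ⟨a, r, k, p, h⟩ := c
  simp only [certK] at hK
  have hxlt : ∀ z ∈ xW a r, z < 10 := fun z hz =>
    (List.mem_append.1 hz).elim (upWord_lt a z) (vecWord_lt r z)
  have hx : el (xW a r) = e r * U a := el_append _ _
  intro _
  show e r * U a = 1 ∨ e r * U a ∈ classTr ∨ _
  generalize hX : e r * U a = x at hx ⊢
  rcases hk : Nat.beq k 1
  swap
  · rw [hk, cond_true] at hK
    simp only [Bool.and_eq_true, List.all_eq_true, Nat.blt_eq, Bool.not_eq_true'] at hK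
    obtain ⟨⟨hlt, hp⟩, h2, h3⟩ := hK
    refine Or.inr (Or.inr ⟨el h, ?_⟩)
    have hylt : ∀ z ∈ twistW (xW a r) h, z < 10 := by
      intro z hz
      simp only [twistW, List.mem_append, List.mem_reverse] at hz
      rcases hz with ((hz | hz) | hz) | hz
      exacts [hlt z hz, hxlt z hz, hlt z hz, hxlt z hz]
    have hy : el (twistW (xW a r) h) = x * (el h * x * (el h)⁻¹) := by
      rw [twistW, el_append, el_append, el_append, hx, el_reverse hlt]
      group
    rw [← hy]
    have hne : ∀ n (q : ℕ), ((hom (el (twistW (xW a r) h) ^ n) ⟨p, hp⟩ : Fin table.N) : ℕ) = q →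
        Nat.beq q p = false → el (twistW (xW a r) h) ^ n ≠ 1 := by
      intro n q hq hb he
      rw [he, map_one, Equiv.Perm.one_apply] at hq
      rw [← hq, Nat.beq_eq.mpr rfl] at hb
      exact Bool.noConfusion hb
    refine ⟨hne 2 _ ?_ h2, hne 3 _ ?_ h3⟩
    · rw [pow_two, map_mul, Equiv.Perm.mul_apply, el_img hylt, el_img hylt]
    · rw [pow_succ, pow_two, map_mul, map_mul, Equiv.Perm.mul_apply, Equiv.Perm.mul_apply, el_img hylt,
        el_img hylt, el_img hylt]
  rw [hk, cond_false] at hK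
  rcases hk2 : Nat.beq k 2
  · left
    rw [hk2, cond_false] at hK
    have e' := eq_of_agree hxlt (by simp) hK
    rw [hx] at e'
    exact e'
  · right; left
    rw [hk2, cond_true, Bool.and_eq_true, Nat.blt_eq] at hK
    have e' := eq_of_agree hxlt (frameWord_lt hK.1) hK.2
    rw [hx, show el (frameWord p) = d p from rfl, d_eq hK.1] at e'
    exact e' ▸ dp_mem _

/-- The statement holds for the vectors of one element. -/
def At (a v : ℕ) : Prop := Good (e v * U a)

theorem move_spec {a : ℕ} (ha : a < 128) {rts : List ℕ} (hr : ∀ r ∈ rts, At a r) {mask : ℕ}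
    (hm : ∀ v, Nat.testBit mask v = true → At a v) {c : ℕ × ℕ × ℕ × ℕ} (h : moveK a rts mask c = true) :
    At a c.1 := by
  obtain ⟨v, p, w, k⟩ := c
  simp only [moveK, Bool.and_eq_true, Bool.or_eq_true] at h
  obtain ⟨-, h⟩ := h
  rcases h with h | ⟨hmem, h⟩
  · exact hr v (List.contains_iff_mem.1 h)
  have hP := hm p hmem
  by_cases hk : k < 7
  · rw [Nat.blt_eq.mpr hk, cond_true, Bool.and_eq_true] at h
    obtain rfl : a = 0 := Nat.eq_of_beq_eq_true h.1
    have h128 : 2 ^ k < 128 := (Nat.pow_lt_pow_right (by norm_num) hk).trans_le (by norm_num)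
    have := good_conj (U (2 ^ k)) _ hP
    show Good (e v * U 0)
    rw [U_zero, mul_one] at this ⊢
    rwa [conj_e h128, ← show v = actV (2 ^ k) p from Nat.eq_of_beq_eq_true h.2] at this
  · rw [show Nat.blt k 7 = false from Bool.eq_false_iff.2 fun e => hk (Nat.blt_eq.mp e), cond_false] at h
    have := good_conj (e w) _ hP
    have hv : v = (p ^^^ w) ^^^ actV a w := Nat.eq_of_beq_eq_true h
    show Good (e v * U a)
    rw [hv, e_xor, e_xor]
    rwa [show e w * (e p * U a) * (e w)⁻¹ = e p * e w * e (actV a w) * U a by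
      rw [← conj_e ha w, e_inv, ← mul_assoc (e w), (e_comm w p).eq]
      group] at this

theorem good_all (x : Fi23) : Good x := by
  intro h2
  have := finite'
  have : Fact (Nat.Prime 2) := ⟨Nat.prime_two⟩
  have hidx : ¬ 2 ∣ syl.index := by
    have h := syl.card_mul_index
    rw [card_syl, card_eq.1] at h
    have h' : syl.index = 4089470473293004800 / 2 ^ 18 := by
      rw [← h, Nat.mul_div_cancel_left _ (by norm_num)]
    rw [h']
    norm_num
  have hp : IsPGroup 2 (Subgroup.zpowers x) := by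
    obtain ⟨i, -, hi⟩ := (Nat.dvd_prime_pow Nat.prime_two).1 (show orderOf x ∣ 2 ^ 1 from
      orderOf_dvd_of_pow_eq_one (by rw [pow_one, pow_two, h2]))
    exact IsPGroup.of_card (n := i) (by rw [Nat.card_zpowers, hi])
  obtain ⟨P, hP⟩ := hp.exists_le_sylow
  obtain ⟨g, hg⟩ := MulAction.exists_smul_eq Fi23 P ((IsPGroup.of_card card_syl).toSylow hidx)
  have hmem : g * x * g⁻¹ ∈ syl := by
    show g * x * g⁻¹ ∈ (((IsPGroup.of_card card_syl).toSylow hidx : Sylow 2 Fi23) : Subgroup Fi23)
    rw [← hg, Sylow.coe_subgroup_smul]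
    exact Subgroup.smul_mem_pointwise_smul x (MulAut.conj g) _ (hP (Subgroup.mem_zpowers x))
  suffices h : Good (g * x * g⁻¹) by
    have h' := good_conj g⁻¹ _ h
    rw [show g⁻¹ * (g * x * g⁻¹) * g⁻¹⁻¹ = x by group] at h'
    exact h' h2
  intro hy2
  generalize g * x * g⁻¹ = y at hmem hy2
  obtain ⟨v, a, hv, ha, rfl⟩ := mem_syl.1 hmem
  have hpa := hasPerm_eU v ha
  have ha2 : mulAt a a = 0 := hasPerm_unique (hasPerm_mul hpa hpa) (hy2 ▸ hasPerm_one)
  obtain ⟨i, hi, hia⟩ := inv_index ha ha2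
  obtain ⟨-, hc, hsq⟩ := square_spec hi
  rw [hia] at hsq
  have hsol : (v ^^^ actV a v) ^^^ (invT.getD i (128, 0)).2 = 0 := by
    refine e_eq_one (Nat.xor_lt_two_pow (n := 11) (Nat.xor_lt_two_pow (n := 11) hv (actV_lt ha v)) hc) ?_
    rw [e_xor, e_xor, ← hsq, ← conj_e ha v]
    calc e v * (U a * e v * (U a)⁻¹) * (U a * U a) = e v * U a * (e v * U a) := by group
      _ = 1 := hy2
  have hR := List.all_eq_true.1 reach_ok i (List.mem_range.2 (invT_len ▸ hi))
  unfold reachK at hR
  dsimp only at hR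
  rw [hia] at hR
  have hcov := cover_ok
  simp only [coverK, List.all_eq_true, List.mem_range] at hcov
  have hroot : ∀ r ∈ rootsT.getD i [], At a r := by
    intro r hr
    obtain ⟨c, hcm, hc'⟩ := List.any_eq_true.1 (hcov i hi r hr)
    rw [Bool.and_eq_true, hia] at hc'
    have := good_cert c hcm
    rwa [Nat.eq_of_beq_eq_true hc'.1, Nat.eq_of_beq_eq_true hc'.2] at this
  have key : ∀ (L : List (ℕ × ℕ × ℕ × ℕ)) (m m' : ℕ), (∀ u, Nat.testBit m u = true → At a u) →
      runK a (rootsT.getD i []) L m = some m' → ∀ u, Nat.testBit m' u = true → At a u := by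
    intro L
    induction L with
    | nil => intro m m' hm h; rw [runK, Option.some.injEq] at h; exact h ▸ hm
    | cons c t ih =>
      intro m m' hm h
      rw [runK] at h
      cases hmv : moveK a (rootsT.getD i []) m c
      · rw [hmv, cond_false] at h; simp at h
      · rw [hmv, cond_true] at h
        refine ih _ _ (fun u hu => ?_) h
        rw [show Nat.lor m (2 ^ c.1) = m ||| 2 ^ c.1 from rfl, Nat.testBit_or, Bool.or_eq_true] at hu
        rcases hu with hu | hu
        · exact hm u hu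
        · rw [Nat.testBit_two_pow, decide_eq_true_eq] at hu
          exact hu ▸ move_spec ha hroot hm hmv
  split at hR
  · exact absurd hR Bool.false_ne_true
  · rename_i m hm
    have h1 := List.all_eq_true.1 hR v (List.mem_range.2 hv)
    have h3 : Nat.testBit m v = true := by
      rcases Bool.or_eq_true _ _ |>.mp h1 with h | h
      · exact h
      · rw [show Nat.beq (Nat.xor (Nat.xor v (actV a v)) _) 0 = true from Nat.beq_eq.mpr hsol] at h
        exact Bool.noConfusion h
    exact key _ 0 m (fun u hu => by simp at hu) hm v h3 hy2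

theorem unique_fi23 (D' : Set Fi23) (hD' : Cfsg.IsThreeTranspositionClass D') : D' = classTr := by
  obtain ⟨⟨hord, hmul⟩, ⟨x, hx, hD⟩, -⟩ := hD'
  have hx2 : x * x = 1 := by rw [← pow_two, ← hord x hx, pow_orderOf_eq_one]
  rcases good_all x hx2 with rfl | hm | ⟨g, hg2, hg3⟩
  · exact absurd (hord 1 hx) (by simp)
  · rw [hD]
    exact (IsConj.conjugatesOf_eq hm).symm
  · exfalso
    have hgx : g * x * g⁻¹ ∈ D' := by
      rw [hD]; exact isConj_iff.2 ⟨g, rfl⟩
    exact (hmul x hx _ hgx).elim hg2 hg3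

/-- The class is the only class of 3-transpositions. -/
theorem class_unique {G : Type*} [Group G] {D : Set G} (h : ModelIso G D) (D' : Set G)
    (hD' : Cfsg.IsThreeTranspositionClass D') : D' = D := by
  obtain ⟨e, he⟩ := h
  obtain ⟨⟨hord, hmul⟩, ⟨x, hx, hD⟩, hgen⟩ := hD'
  have key : e '' D' = classTr := by
    refine unique_fi23 _ ⟨⟨?_, ?_⟩, ⟨e x, Set.mem_image_of_mem e hx, ?_⟩, ?_⟩
    · rintro _ ⟨y, hy, rfl⟩
      rw [MulEquiv.orderOf_eq, hord y hy]
    · rintro _ ⟨a, ha, rfl⟩ _ ⟨b, hb, rfl⟩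
      rw [← map_mul, ← map_pow, ← map_pow]
      exact (hmul a ha b hb).imp (fun h => by rw [h, map_one]) fun h => by rw [h, map_one]
    · ext y
      obtain ⟨z, rfl⟩ := e.surjective y
      rw [e.injective.mem_set_image, hD]
      show IsConj x z ↔ IsConj (e x) (e z)
      constructor
      · intro hc
        exact e.toMonoidHom.map_isConj hc
      · intro hc
        have := e.symm.toMonoidHom.map_isConj hc
        simpa using this
    · rw [show e '' D' = e.toMonoidHom '' D' from rfl, ← MonoidHom.map_closure, hgen,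
        Subgroup.map_top_of_surjective _ e.surjective]
  exact e.injective.image_injective (key.trans he.symm)

end CfsgLib.Sporadic.FiTransfer23.ClassUnique
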